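import Mathlib

/-!
Global sections of `X ×ₖ T` for `X` quasi-compact (not necessarily quasi-separated), `T` affine,
over the spectrum of a field: they are `Γ(T) ⊗ₖ Γ(X)`.
-/

open CategoryTheory Limits AlgebraicGeometry TopologicalSpace TensorProduct

universe u

namespace GrothLib.HomAff13

theorem piRightHom_injective {R : Type*} [CommRing R] {N : Type*} [AddCommGroup N] [Module R N]
    [Module.Free R N] {ι : Type*} (M : ι → Type*) [∀ i, AddCommGroup (M i)]
    [∀ i, Module R (M i)] :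
    Function.Injective (TensorProduct.piRightHom R R N M) := by
  classical
  intro x y hxy
  let b := Module.Free.chooseBasis R N
  let ePi := (b.repr.rTensor (∀ i, M i)).trans (finsuppScalarLeft R (∀ i, M i) _)
  have key : ∀ (z : N ⊗[R] (∀ i, M i)) (i : ι) (j),
      ((b.repr.rTensor (M i)).trans (finsuppScalarLeft R (M i) _))
        (TensorProduct.piRightHom R R N M z i) j = ePi z j i := by
    intro z i j
    induction z using TensorProduct.induction_on with
    | zero => simp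
    | tmul n f => simp [ePi]
    | add a c ha hc => simp only [map_add, Pi.add_apply, Finsupp.add_apply, ha, hc]
  apply ePi.injective
  ext j i
  rw [← key, ← key, hxy]

variable {X Y S T : Scheme.{u}} {f : T ⟶ S} {g : Y ⟶ X} {iX : X ⟶ S} {iY : Y ⟶ T}
  (H : IsPullback g iY iX f)
  {US : S.Opens} {UT : T.Opens}
  {UX : X.Opens} (hUST : UT ≤ f ⁻¹ᵁ US) (hUSX : UX ≤ iX ⁻¹ᵁ US)
  {UY : Y.Opens} (hUY : UY = g ⁻¹ᵁ UX ⊓ iY ⁻¹ᵁ UT)

set_option backward.isDefEq.respectTransparency false in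
open TensorProduct in
lemma mono_pushoutSection_of_iSup_eq_of_isField {ι : Type*} (VX : ι → X.Opens)
    (hVU : iSup VX = UX)
    (hV : ∀ i, Mono (pushoutSection H hUST (show VX i ≤ _ by aesop) rfl))
    (hF : IsField Γ(S, US)) :
    Mono (pushoutSection H hUST hUSX hUY) := by
  have (i : _) : VX i ≤ iX ⁻¹ᵁ US := by clear hV; aesop
  classical
  algebraize [(iX.appLE US UX hUSX).hom, (f.appLE US UT hUST).hom]
  let (i : _) := (iX.appLE US (VX i) (by aesop)).hom.toAlgebra
  have hfree : Module.Free Γ(S, US) Γ(T, UT) := by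
    letI := hF.toField
    exact Module.Free.of_divisionRing _ _
  let ψY : Γ(Y, UY) →+* Π i, Γ(Y, g ⁻¹ᵁ VX i ⊓ iY ⁻¹ᵁ UT) := RingHom.pi fun i ↦
      (Y.presheaf.map (homOfLE (by subst hUY hVU; gcongr; exact le_iSup _ _)).op).hom
  let ψ : Γ(X, UX) →ₐ[Γ(S, US)] Π i, Γ(X, VX i) := AlgHom.pi fun i ↦
    ⟨(X.presheaf.map (homOfLE (hVU ▸ le_iSup VX i)).op).hom, fun r ↦ by
      dsimp [RingHom.algebraMap_toAlgebra]
      simp only [← CommRingCat.comp_apply, Scheme.Hom.appLE_map]⟩
  have hψ : Function.Injective ψ := by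
    intro s t est
    apply X.IsSheaf.section_ext fun x hx ↦ ?_
    simp only [← hVU, Opens.mem_iSup] at hx
    obtain ⟨i, hxi⟩ := hx
    exact ⟨_, _, hxi, congr($est i)⟩
  have hψ' : Function.Injective (Algebra.TensorProduct.map (AlgHom.id Γ(T, UT) Γ(T, UT)) ψ) :=
    Module.Flat.lTensor_preserves_injective_linearMap ψ.toLinearMap hψ
  simp_rw [@ConcreteCategory.mono_iff_injective_of_preservesPullback] at hV ⊢
  let φ : (Γ(T, UT) ⊗[Γ(S, US)] Π i, Γ(X, VX i)) →+* Π i, Γ(Y, g ⁻¹ᵁ VX i ⊓ iY ⁻¹ᵁ UT) :=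
    (RingHom.pi fun i ↦ (pushoutSection H hUST (show VX i ≤ _ by aesop) rfl).hom.comp
      ((CommRingCat.isPushout_tensorProduct _ _ _).flip.isoPushout.hom.hom.comp
      (by exact Pi.evalRingHom _ _))).comp
        (Algebra.TensorProduct.piRightHom Γ(S, US) Γ(S, US) _ _).toRingHom
  have hφ : Function.Injective φ := by
    dsimp [φ]
    refine .comp ?_ (piRightHom_injective (R := Γ(S, US)) (N := Γ(T, UT)) fun i ↦ Γ(X, VX i))
    exact .piMap fun i ↦ (hV _).comp <| CommRingCat.isPushout_tensorProduct _ _ _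
      |>.flip.isoPushout.commRingCatIsoToRingEquiv.injective
  let e : pushout (iX.appLE US UX hUSX) (f.appLE US UT hUST) ≅
      .of (Γ(T, UT) ⊗[Γ(S, US)] Γ(X, UX)) :=
    (CommRingCat.isPushout_tensorProduct _ _ _).flip.isoPushout.symm
  suffices (ψY.comp (pushoutSection H hUST hUSX hUY).hom).comp e.inv.hom = φ.comp
      (Algebra.TensorProduct.map (AlgHom.id Γ(T, UT) Γ(T, UT)) ψ).toRingHom by
    refine .of_comp (f := ψY) ?_
    convert (hφ.comp hψ').comp e.commRingCatIsoToRingEquiv.injective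
    ext1 x; simpa using! congr($this (e.hom x))
  ext1
  · have H₁ : e.inv.hom.comp Algebra.TensorProduct.includeLeftRingHom =
        (pushout.inr (C := CommRingCat) _ _).hom :=
      congr($((CommRingCat.isPushout_tensorProduct _ _ _).flip.inr_isoPushout_hom).hom)
    have H₂ (x j) : φ (x ⊗ₜ[↑Γ(S, US)] 1) j = pushoutSection H hUST (UX := VX j) (by simp_all) rfl
        (pushout.inr (C := CommRingCat) _ _ x) := congr(pushoutSection H hUST (UX := VX j) _ rfl
        ($((CommRingCat.isPushout_tensorProduct ↑Γ(S, US)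
          ↑Γ(T, UT) ↑Γ(X, VX j)).flip.inr_isoPushout_hom) x))
    simp only [RingHom.comp_assoc, H₁]
    ext x j
    simp [ψY, H₂, ← CategoryTheory.comp_apply, pushoutSection]
  · have H₁ : e.inv.hom.comp Algebra.TensorProduct.includeRight.toRingHom =
        (pushout.inl (C := CommRingCat) _ _).hom :=
      congr($((CommRingCat.isPushout_tensorProduct _ _ _).flip.inl_isoPushout_hom).hom)
    have H₂ (x j) : φ (1 ⊗ₜ[↑Γ(S, US)] x) j = pushoutSection H hUST (UX := VX j) (by simp_all) rfl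
        (pushout.inl (C := CommRingCat) _ _ (x j)) := congr(pushoutSection H hUST (UX := VX j) _ rfl
        ($((CommRingCat.isPushout_tensorProduct ↑Γ(S, US)
          ↑Γ(T, UT) ↑Γ(X, VX j)).flip.inl_isoPushout_hom) (x j)))
    simp only [RingHom.comp_assoc, H₁]
    ext x j
    simp [ψY, H₂, -CommRingCat.hom_comp, ← CategoryTheory.comp_apply, pushoutSection, ψ]

/-- Base change of global sections over a field, for `X` quasi-compact and `T` affine. -/
theorem isPushout_appTop_of_compactSpace {k : Type u} [Field k]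
    {X Y T : Scheme.{u}} {f : T ⟶ Spec (CommRingCat.of k)} {g : Y ⟶ X}
    {iX : X ⟶ Spec (CommRingCat.of k)} {iY : Y ⟶ T}
    (H : IsPullback g iY iX f) [CompactSpace X] [IsAffine T] :
    IsPushout iX.appTop f.appTop g.appTop iY.appTop := by
  have hF : IsField Γ(Spec (CommRingCat.of k), ⊤) :=
    (Scheme.ΓSpecIso (CommRingCat.of k)).commRingCatIsoToRingEquiv.toMulEquiv.isField
      (Field.toIsField k)
  have hUST : (⊤ : T.Opens) ≤ f ⁻¹ᵁ ⊤ := by simp
  have hUSX : (⊤ : X.Opens) ≤ iX ⁻¹ᵁ ⊤ := by simp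
  have hUY : (⊤ : Y.Opens) = g ⁻¹ᵁ ⊤ ⊓ iY ⁻¹ᵁ ⊤ := by simp
  have hXc : IsCompact ((⊤ : X.Opens) : Set X) := by simpa using isCompact_univ
  obtain ⟨I, hI, e⟩ := isCompact_iff_finite_and_eq_biUnion_affineOpens.mp hXc
  have := hI.to_subtype
  have hT : (f.appLE ⊤ ⊤ hUST).hom.Flat := by
    letI := hF.toField
    letI := (f.appLE ⊤ ⊤ hUST).hom.toAlgebra
    exact Module.Flat.of_free
  have : IsIso (pushoutSection H hUST hUSX hUY) := by
    refine isIso_pushoutSection_of_iSup_eq H hUST hUSX hUY (fun i : I ↦ i)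
      (by rwa [iSup_subtype, eq_comm])
      (fun i ↦ isIso_pushoutSection_of_isAffineOpen _ _ _ _ (isAffineOpen_top _)
        (isAffineOpen_top _) i.1.2) (fun i j ↦ ?_) hT
    refine mono_pushoutSection_of_iSup_eq_of_isField H hUST _ rfl
      (fun V : {V : X.affineOpens // V.1 ≤ i.1.1 ⊓ j.1.1} ↦ V.1.1) ?_ (fun V ↦ ?_) hF
    · apply le_antisymm (iSup_le fun V ↦ V.2)
      intro x hx
      obtain ⟨_, ⟨V, hV, rfl⟩, hxV, hVle⟩ := X.isBasis_affineOpens.exists_subset_of_mem_open
        hx (i.1.1 ⊓ j.1.1).isOpen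
      exact Opens.mem_iSup.mpr ⟨⟨⟨V, hV⟩, hVle⟩, hxV⟩
    · have := isIso_pushoutSection_of_isAffineOpen H hUST (UX := V.1.1) (by simp) rfl
        (isAffineOpen_top _) (isAffineOpen_top _) V.1.2
      infer_instance
  have := (isIso_pushoutSection_iff H hUST hUSX hUY).mp this
  simpa [Scheme.Hom.appTop, Scheme.Hom.app_eq_appLE] using this

end GrothLib.HomAff13
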