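import Mathlib

/-!
Restriction of scalars along a finite free algebra `k → A`: the functor
`R ↦ Hom_k-alg(C, R ⊗ₖ A)` is corepresentable.
-/

open TensorProduct

universe u

namespace GrothLib.HomAff13

section

variable {k : Type u} [Field k] {A : Type u} [CommRing A] [Algebra k A]
  {ι : Type*} (b : Module.Basis ι k A)

/-- Coordinates of an element of `R ⊗ A` w.r.t. a basis of `A`. -/
noncomputable def co (R : Type u) [CommRing R] [Algebra k R] (z : R ⊗[k] A) (i : ι) : R :=
  (Algebra.TensorProduct.basis R b).repr z i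

theorem co_map {R R' : Type u} [CommRing R] [Algebra k R] [CommRing R'] [Algebra k R']
    (g : R →ₐ[k] R') (z : R ⊗[k] A) (i : ι) :
    co b R' (Algebra.TensorProduct.map g (AlgHom.id k A) z) i = g (co b R z i) := by
  induction z using TensorProduct.induction_on with
  | zero => simp [co]
  | tmul r a => simp [co, Algebra.TensorProduct.basis_repr_tmul]
  | add x y hx hy =>
    simp only [co, map_add, Finsupp.add_apply] at hx hy ⊢
    rw [hx, hy]

theorem co_ext {R : Type u} [CommRing R] [Algebra k R] {z w : R ⊗[k] A}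
    (h : ∀ i, co b R z i = co b R w i) : z = w :=
  (Algebra.TensorProduct.basis R b).ext_elem h

theorem sum_co [Fintype ι] {R : Type u} [CommRing R] [Algebra k R] (z : R ⊗[k] A) :
    ∑ i, co b R z i ⊗ₜ[k] b i = z := by
  conv_rhs => rw [← (Algebra.TensorProduct.basis R b).sum_repr z]
  refine Finset.sum_congr rfl fun i _ ↦ ?_
  rw [Algebra.TensorProduct.basis_repr_symm_apply']
  rfl

end

set_option synthInstance.maxHeartbeats 200000 in
set_option maxHeartbeats 1000000 in
/-- Corepresentability. -/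
theorem exists_universal (k : Type u) [Field k] (C A : Type u) [CommRing C] [Algebra k C]
    [CommRing A] [Algebra k A] [Module.Finite k A] :
    ∃ (Q : Type u) (_ : CommRing Q) (_ : Algebra k Q) (φ : C →ₐ[k] Q ⊗[k] A),
      (∀ (R : Type u) [CommRing R] [Algebra k R] (ψ : C →ₐ[k] R ⊗[k] A),
        ∃! g : Q →ₐ[k] R, (Algebra.TensorProduct.map g (AlgHom.id k A)).comp φ = ψ) ∧
      (Algebra.FiniteType k C → Algebra.FiniteType k Q) := by
  classical
  let ι := Fin (Module.finrank k A)
  let b : Module.Basis ι k A := Module.finBasis k A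
  let P := MvPolynomial (C × ι) k
  let φ0 : C → P ⊗[k] A := fun c ↦ ∑ i, (MvPolynomial.X (c, i) : P) ⊗ₜ[k] b i
  let rel : Set (P ⊗[k] A) :=
    (Set.range fun p : C × C ↦ φ0 (p.1 + p.2) - φ0 p.1 - φ0 p.2) ∪
      (Set.range fun p : C × C ↦ φ0 (p.1 * p.2) - φ0 p.1 * φ0 p.2) ∪
      (Set.range fun r : k ↦ φ0 (algebraMap k C r) - algebraMap k (P ⊗[k] A) r)
  let J : Ideal P := Ideal.span {x | ∃ z ∈ rel, ∃ i, x = co b P z i}
  let π : P →ₐ[k] P ⧸ J := Ideal.Quotient.mkₐ k J
  let π' : P ⊗[k] A →ₐ[k] (P ⧸ J) ⊗[k] A := Algebra.TensorProduct.map π (AlgHom.id k A)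
  have hkill : ∀ z ∈ rel, π' z = 0 := by
    intro z hz
    refine co_ext b fun i ↦ ?_
    rw [co_map b π z i]
    simp only [co, map_zero, Finsupp.zero_apply]
    exact Ideal.Quotient.eq_zero_iff_mem.mpr (Ideal.subset_span ⟨z, hz, i, rfl⟩)
  have hadd : ∀ c d, π' (φ0 (c + d)) = π' (φ0 c) + π' (φ0 d) := fun c d ↦ by
    rw [← map_add, ← sub_eq_zero, ← map_sub, ← sub_sub]
    exact hkill _ (Or.inl (Or.inl ⟨(c, d), rfl⟩))
  have hmul : ∀ c d, π' (φ0 (c * d)) = π' (φ0 c) * π' (φ0 d) := fun c d ↦ by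
    rw [← map_mul, ← sub_eq_zero, ← map_sub]
    exact hkill _ (Or.inl (Or.inr ⟨(c, d), rfl⟩))
  have halg : ∀ r, π' (φ0 (algebraMap k C r)) = algebraMap k _ r := fun r ↦ by
    rw [← π'.commutes r, ← sub_eq_zero, ← map_sub]
    exact hkill _ (Or.inr ⟨r, rfl⟩)
  let φ : C →ₐ[k] (P ⧸ J) ⊗[k] A :=
    { toFun := fun c ↦ π' (φ0 c)
      map_one' := by simpa only [map_one] using halg 1
      map_mul' := hmul
      map_zero' := by simpa only [map_zero] using halg 0
      map_add' := hadd
      commutes' := halg }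
  have hφ0 : ∀ c i, co b P (φ0 c) i = MvPolynomial.X (c, i) := fun c i ↦ by
    simp only [φ0, co, map_sum, Finsupp.finsetSum_apply, Algebra.TensorProduct.basis_repr_tmul,
      Module.Basis.repr_self, Finsupp.mapRange_single, map_one, Finsupp.smul_single, smul_eq_mul,
      mul_one]
    rw [Finset.sum_eq_single i] <;> simp +contextual [Finsupp.single_eq_of_ne]
  have hφ : ∀ c i, co b _ (φ c) i = π (MvPolynomial.X (c, i)) := fun c i ↦ by
    show co b _ (π' (φ0 c)) i = _
    rw [co_map b π (φ0 c) i, hφ0]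
  refine ⟨P ⧸ J, inferInstance, inferInstance, φ, ?_, ?_⟩
  · intro R _ _ ψ
    let g0 : P →ₐ[k] R := MvPolynomial.aeval fun p ↦ co b R (ψ p.1) p.2
    have hg0 : ∀ c, Algebra.TensorProduct.map g0 (AlgHom.id k A) (φ0 c) = ψ c := fun c ↦ by
      refine co_ext b fun i ↦ ?_
      rw [co_map b g0 (φ0 c) i, hφ0]
      exact MvPolynomial.aeval_X _ _
    have hJ : ∀ x ∈ J, g0 x = 0 := by
      show J ≤ RingHom.ker g0
      refine Ideal.span_le.mpr ?_
      rintro x ⟨z, hz, i, rfl⟩
      show g0 (co b P z i) = 0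
      have : Algebra.TensorProduct.map g0 (AlgHom.id k A) z = 0 := by
        rcases hz with (⟨p, rfl⟩ | ⟨p, rfl⟩) | ⟨r, rfl⟩ <;>
          simp [map_sub, map_mul, hg0, AlgHom.commutes, map_add]
      rw [← co_map b g0 z i, this]
      simp [co]
    let g : P ⧸ J →ₐ[k] R := Ideal.Quotient.liftₐ J g0 hJ
    refine ⟨g, ?_, ?_⟩
    · refine AlgHom.ext fun c ↦ co_ext b fun i ↦ ?_
      show co b R (Algebra.TensorProduct.map g (AlgHom.id k A) (φ c)) i = _
      rw [co_map b g (φ c) i, hφ]
      exact MvPolynomial.aeval_X _ _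
    · intro g' hg'
      refine Ideal.Quotient.algHom_ext k (MvPolynomial.algHom_ext fun ⟨c, i⟩ ↦ ?_)
      have h1 := co_map b g' (φ c) i
      rw [hφ] at h1
      have h2 := co_map b g (φ c) i
      rw [hφ] at h2
      show g' (π _) = g (π _)
      rw [← h1, ← h2]
      have : Algebra.TensorProduct.map g (AlgHom.id k A) (φ c) = ψ c := by
        refine co_ext b fun i ↦ ?_
        rw [co_map b g (φ c) i, hφ]
        exact MvPolynomial.aeval_X _ _
      rw [this, ← hg']
      rfl
  · intro hC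
    obtain ⟨s, hs⟩ := Algebra.FiniteType.out (R := k) (A := C)
    let G : Set (P ⧸ J) := (fun p : C × ι ↦ π (MvPolynomial.X p)) '' ((s : Set C) ×ˢ Set.univ)
    let S := Algebra.adjoin k G
    have hGfin : G.Finite := (s.finite_toSet.prod Set.finite_univ).image _
    let m : S ⊗[k] A →ₐ[k] (P ⧸ J) ⊗[k] A := Algebra.TensorProduct.map S.val (AlgHom.id k A)
    have hmem : ∀ c, φ c ∈ m.range := by
      intro c
      have hc : c ∈ (Algebra.adjoin k (s : Set C)) := by rw [hs]; trivial
      refine (Algebra.adjoin_le (S := m.range.comap φ) ?_) hc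
      intro d hd
      refine ⟨∑ i, (⟨π (MvPolynomial.X (d, i)),
        Algebra.subset_adjoin ⟨(d, i), ⟨hd, trivial⟩, rfl⟩⟩ : S) ⊗ₜ[k] b i, ?_⟩
      simp only [φ, φ0, π', m, map_sum, AlgHom.toRingHom_eq_coe]
      simp [map_sum]
    have hS : S = ⊤ := by
      rw [eq_top_iff]
      rintro x -
      obtain ⟨p, rfl⟩ := Ideal.Quotient.mk_surjective x
      induction p using MvPolynomial.induction_on with
      | C r => exact S.algebraMap_mem r
      | add p q hp hq => rw [map_add]; exact S.add_mem hp hq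
      | mul_X p v hp =>
        rw [map_mul]
        refine S.mul_mem hp ?_
        obtain ⟨c, i⟩ := v
        obtain ⟨z, hz⟩ := hmem c
        have := co_map b S.val z i
        rw [show Algebra.TensorProduct.map S.val (AlgHom.id k A) z = φ c from hz, hφ] at this
        exact this ▸ SetLike.coe_mem _
    exact ⟨⟨hGfin.toFinset, by rw [hGfin.coe_toFinset]; exact hS⟩⟩

end GrothLib.HomAff13
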