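import Mathlib
import Groth.Agent.Lib.HomAff13.Base
import Groth.Agent.Lib.HomAff13.Universal

/-!
The scheme of morphisms from a quasi-compact `k`-scheme with finite-dimensional
global functions to an affine `k`-scheme.
-/

open CategoryTheory Limits AlgebraicGeometry MonoidalCategory CartesianMonoidalCategory
open scoped TensorProduct

universe u

namespace GrothLib.HomAff13

variable {k : Type u} [Field k]

/-- Global functions of a `k`-scheme, as a `k`-algebra. -/
def GA (Y : Over (Spec (CommRingCat.of k))) : Type u := Γ(Y.left, ⊤)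

noncomputable instance (Y : Over (Spec (CommRingCat.of k))) : CommRing (GA Y) :=
  inferInstanceAs (CommRing Γ(Y.left, ⊤))

noncomputable instance (Y : Over (Spec (CommRingCat.of k))) : Algebra k (GA Y) :=
  ((Y.hom.appTop.hom.comp (Scheme.ΓSpecIso (CommRingCat.of k)).inv.hom : k →+* GA Y)).toAlgebra

/-- Pullback of global functions. -/
noncomputable def gmap {Y Y' : Over (Spec (CommRingCat.of k))} (f : Y ⟶ Y') : GA Y' →ₐ[k] GA Y :=
  { (f.left.appTop.hom : GA Y' →+* GA Y) with
    commutes' := fun r ↦ by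
      show f.left.appTop.hom (Y'.hom.appTop.hom _) = Y.hom.appTop.hom _
      rw [← CommRingCat.comp_apply, ← Scheme.Hom.comp_appTop, Over.w] }

theorem gmap_apply {Y Y' : Over (Spec (CommRingCat.of k))} (f : Y ⟶ Y') (x : GA Y') :
    gmap f x = f.left.appTop.hom x := rfl

theorem gmap_comp {Y Y' Y'' : Over (Spec (CommRingCat.of k))} (f : Y ⟶ Y') (g : Y' ⟶ Y'') :
    gmap (f ≫ g) = (gmap f).comp (gmap g) := by
  ext x
  show (f ≫ g).left.appTop.hom x = f.left.appTop.hom (g.left.appTop.hom x)
  rw [Over.comp_left, Scheme.Hom.comp_appTop]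
  rfl

theorem hom_ext_of_isAffine {Y Z : Over (Spec (CommRingCat.of k))} [IsAffine Z.left]
    {f g : Y ⟶ Z} (h : gmap f = gmap g) : f = g := by
  refine Over.OverMorphism.ext (ext_of_isAffine ?_)
  ext x
  exact DFunLike.congr_fun h x

theorem exists_gmap_eq {Y Z : Over (Spec (CommRingCat.of k))} [IsAffine Z.left]
    (φ : GA Z →ₐ[k] GA Y) : ∃ f : Y ⟶ Z, gmap f = φ := by
  let φ' : Γ(Z.left, ⊤) ⟶ Γ(Y.left, ⊤) := CommRingCat.ofHom φ.toRingHom
  let f0 : Y.left ⟶ Z.left := Y.left.toSpecΓ ≫ Spec.map φ' ≫ Z.left.isoSpec.inv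
  have hf0 : f0.appTop = φ' := by
    have h2 : Z.left.isoSpec.inv.appTop ≫ Z.left.isoSpec.hom.appTop = 𝟙 _ := by
      rw [← Scheme.Hom.comp_appTop, Iso.hom_inv_id, Scheme.Hom.id_appTop]
    rw [Scheme.isoSpec_hom, Scheme.toSpecΓ_appTop, ← Iso.eq_comp_inv, Category.id_comp] at h2
    simp only [f0, Scheme.Hom.comp_appTop, h2, Scheme.toSpecΓ_appTop, Category.assoc,
      Scheme.ΓSpecIso_naturality, Iso.inv_hom_id_assoc]
  have hw : f0 ≫ Z.hom = Y.hom := by
    apply ext_of_isAffine
    rw [Scheme.Hom.comp_appTop, hf0, ← cancel_epi (Scheme.ΓSpecIso (CommRingCat.of k)).inv]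
    ext r
    exact φ.commutes r
  refine ⟨Over.homMk f0 hw, AlgHom.ext fun x ↦ ?_⟩
  show f0.appTop.hom x = φ x
  rw [hf0]
  rfl

/-- The comparison map `Γ(S) ⊗ Γ(X) → Γ(X × S)`. -/
noncomputable def theta (X S : Over (Spec (CommRingCat.of k))) :
    GA S ⊗[k] GA X →ₐ[k] GA (X ⊗ S) :=
  Algebra.TensorProduct.lift (gmap (snd X S)) (gmap (fst X S)) fun _ _ ↦ Commute.all _ _

theorem theta_natural (X : Over (Spec (CommRingCat.of k))) {S S' : Over (Spec (CommRingCat.of k))}
    (g : S ⟶ S') :
    (gmap (X ◁ g)).comp (theta X S') =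
      (theta X S).comp (Algebra.TensorProduct.map (gmap g) (AlgHom.id k (GA X))) := by
  refine Algebra.TensorProduct.ext' fun a b ↦ ?_
  simp only [AlgHom.comp_apply, theta, Algebra.TensorProduct.lift_tmul, map_mul,
    Algebra.TensorProduct.map_tmul, AlgHom.id_apply]
  rw [← AlgHom.comp_apply, ← gmap_comp, ← AlgHom.comp_apply (gmap (X ◁ g)), ← gmap_comp,
    ← AlgHom.comp_apply (gmap (snd X S)), ← gmap_comp, whiskerLeft_fst, whiskerLeft_snd]

theorem theta_bijective (X S : Over (Spec (CommRingCat.of k))) [CompactSpace X.left]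
    [IsAffine S.left] : Function.Bijective (theta X S) := by
  have hp : IsPullback (fst X S).left (snd X S).left X.hom S.hom :=
    IsPullback.of_hasPullback X.hom S.hom
  have h1 := isPushout_appTop_of_compactSpace hp
  have h2 : IsPushout (CommRingCat.ofHom (algebraMap k (GA X)))
      (CommRingCat.ofHom (algebraMap k (GA S))) (CommRingCat.ofHom (gmap (fst X S)).toRingHom)
      (CommRingCat.ofHom (gmap (snd X S)).toRingHom) :=
    h1.of_iso (Scheme.ΓSpecIso (CommRingCat.of k)) (Iso.refl _) (Iso.refl _) (Iso.refl _)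
      (by
        show X.hom.appTop ≫ 𝟙 Γ(X.left, ⊤) =
          (Scheme.ΓSpecIso (CommRingCat.of k)).hom ≫ (Scheme.ΓSpecIso _).inv ≫ X.hom.appTop
        simp)
      (by
        show S.hom.appTop ≫ 𝟙 Γ(S.left, ⊤) =
          (Scheme.ΓSpecIso (CommRingCat.of k)).hom ≫ (Scheme.ΓSpecIso _).inv ≫ S.hom.appTop
        simp)
      (by simp; exact (Category.id_comp _).symm) (by simp; exact (Category.id_comp _).symm)
  have hstd := CommRingCat.isPushout_tensorProduct k (GA S) (GA X)
  let e : CommRingCat.of (GA S ⊗[k] GA X) ≅ CommRingCat.of (GA (X ⊗ S)) :=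
    hstd.isoIsPushout _ _ h2.flip
  have he : e.hom = CommRingCat.ofHom (theta X S).toRingHom := by
    apply hstd.hom_ext
    · rw [show e = hstd.isoIsPushout _ _ h2.flip from rfl, IsPushout.inl_isoIsPushout_hom]
      ext a
      show gmap (snd X S) a = theta X S (a ⊗ₜ 1)
      simp only [theta, Algebra.TensorProduct.lift_tmul, map_one, mul_one]
    · rw [show e = hstd.isoIsPushout _ _ h2.flip from rfl, IsPushout.inr_isoIsPushout_hom]
      ext a
      show gmap (fst X S) a = theta X S (1 ⊗ₜ a)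
      simp only [theta, Algebra.TensorProduct.lift_tmul, map_one, one_mul]
  have := (ConcreteCategory.isIso_iff_bijective e.hom).mp inferInstance
  rw [he] at this
  exact this

set_option maxHeartbeats 1000000 in
/-- The scheme of morphisms. -/
theorem exists_homScheme (X : Over (Spec (CommRingCat.of k))) [CompactSpace X.left]
    [Module.Finite k (GA X)] (Z : Over (Spec (CommRingCat.of k))) [IsAffine Z.left] :
    ∃ (M : Over (Spec (CommRingCat.of k))) (_ : IsAffine M.left) (ev : X ⊗ M ⟶ Z),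
      (∀ (S : Over (Spec (CommRingCat.of k))) (f : X ⊗ S ⟶ Z), ∃! g : S ⟶ M, (X ◁ g) ≫ ev = f) ∧
      (LocallyOfFiniteType Z.hom → LocallyOfFiniteType M.hom) := by
  obtain ⟨Q, _, _, φ, hφ, hfin⟩ := exists_universal k (GA Z) (GA X)
  let M : Over (Spec (CommRingCat.of k)) :=
    Over.mk (Spec.map (CommRingCat.ofHom (algebraMap k Q)))
  haveI : IsAffine M.left := inferInstanceAs (IsAffine (Spec (CommRingCat.of Q)))
  let ι : Q →ₐ[k] GA M :=
    { ((Scheme.ΓSpecIso (CommRingCat.of Q)).inv.hom : Q →+* GA M) with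
      commutes' := fun r ↦ by
        exact ConcreteCategory.congr_hom
          (Scheme.ΓSpecIso_inv_naturality (CommRingCat.ofHom (algebraMap k Q))) r }
  have hι : Function.Bijective ι :=
    (ConcreteCategory.isIso_iff_bijective (Scheme.ΓSpecIso (CommRingCat.of Q)).inv).mp inferInstance
  let eι := AlgEquiv.ofBijective ι hι
  obtain ⟨ev, hev⟩ := exists_gmap_eq (Y := X ⊗ M) (Z := Z)
    ((theta X M).comp ((Algebra.TensorProduct.map ι (AlgHom.id k (GA X))).comp φ))
  have key : ∀ (S : Over (Spec (CommRingCat.of k))) (g : S ⟶ M),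
      gmap ((X ◁ g) ≫ ev) = (theta X S).comp
        ((Algebra.TensorProduct.map ((gmap g).comp ι) (AlgHom.id k (GA X))).comp φ) := by
    intro S g
    rw [gmap_comp, hev, ← AlgHom.comp_assoc, theta_natural, AlgHom.comp_assoc,
      ← AlgHom.comp_assoc (Algebra.TensorProduct.map (gmap g) _),
      ← Algebra.TensorProduct.map_comp, AlgHom.comp_id]
  have haff : ∀ (S : Over (Spec (CommRingCat.of k))) [IsAffine S.left] (f : X ⊗ S ⟶ Z),
      ∃! g : S ⟶ M, (X ◁ g) ≫ ev = f := by
    intro S _ f
    let e := AlgEquiv.ofBijective (theta X S) (theta_bijective X S)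
    obtain ⟨g, hg, huniq⟩ := hφ (GA S) (e.symm.toAlgHom.comp (gmap f))
    obtain ⟨gS, hgS⟩ := exists_gmap_eq (Y := S) (Z := M) (g.comp eι.symm.toAlgHom)
    have hgι : (gmap gS).comp ι = g := by
      ext q
      simp [hgS, eι]
    refine ⟨gS, hom_ext_of_isAffine ?_, fun g' hg' ↦ hom_ext_of_isAffine ?_⟩
    · rw [key, hgι, hg]
      ext z
      exact e.apply_symm_apply _
    · have h1 : (gmap g').comp ι = g := by
        apply huniq
        ext z
        apply e.injective
        rw [← hg', key]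
        exact (e.apply_symm_apply _).symm
      ext z
      obtain ⟨q, rfl⟩ := hι.2 z
      exact (DFunLike.congr_fun h1 q).trans (DFunLike.congr_fun hgι q).symm
  have hinj : ∀ (S : Over (Spec (CommRingCat.of k))) (a b : S ⟶ M),
      (X ◁ a) ≫ ev = (X ◁ b) ≫ ev → a = b := by
    intro S a b hab
    refine Over.OverMorphism.ext (S.left.affineCover.hom_ext _ _ fun i ↦ ?_)
    let U : Over (Spec (CommRingCat.of k)) := Over.mk (S.left.affineCover.f i ≫ S.hom)
    haveI : IsAffine U.left := inferInstanceAs (IsAffine (S.left.affineCover.X i))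
    let j : U ⟶ S := Over.homMk (S.left.affineCover.f i) rfl
    have : j ≫ a = j ≫ b := (haff U ((X ◁ j) ≫ (X ◁ b) ≫ ev)).unique
      (by rw [MonoidalCategory.whiskerLeft_comp, Category.assoc, hab])
      (by rw [MonoidalCategory.whiskerLeft_comp, Category.assoc])
    exact congrArg CommaMorphism.left this
  refine ⟨M, inferInstance, ev, fun S f ↦ ?_, fun hZ ↦ ?_⟩
  · obtain ⟨𝒰, hAff⟩ : ∃ 𝒰 : S.left.OpenCover, ∀ i, IsAffine (𝒰.X i) :=
      ⟨S.left.affineCover, fun i ↦ inferInstance⟩
    let U (i : 𝒰.I₀) : Over (Spec (CommRingCat.of k)) := Over.mk (𝒰.f i ≫ S.hom)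
    have hU (i : 𝒰.I₀) : IsAffine (U i).left := hAff i
    let j (i : 𝒰.I₀) : U i ⟶ S := Over.homMk (𝒰.f i) rfl
    choose g hg hgu using fun i ↦ haff (U i) ((X ◁ j i) ≫ f)
    have hcompat : ∀ i i' : 𝒰.I₀, pullback.fst (𝒰.f i) (𝒰.f i') ≫ (g i).left =
        pullback.snd (𝒰.f i) (𝒰.f i') ≫ (g i').left := by
      intro i i'
      let P : Over (Spec (CommRingCat.of k)) :=
        Over.mk (pullback.fst (𝒰.f i) (𝒰.f i') ≫ (U i).hom)
      let p : P ⟶ U i := Over.homMk (pullback.fst _ _) rfl
      let p' : P ⟶ U i' := Over.homMk (pullback.snd _ _) (by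
        show pullback.snd _ _ ≫ 𝒰.f i' ≫ S.hom = pullback.fst _ _ ≫ 𝒰.f i ≫ S.hom
        rw [pullback.condition_assoc])
      have hpj : p ≫ j i = p' ≫ j i' := Over.OverMorphism.ext pullback.condition
      have := hinj P (p ≫ g i) (p' ≫ g i') (by
        simp only [MonoidalCategory.whiskerLeft_comp, Category.assoc, hg]
        rw [← MonoidalCategory.whiskerLeft_comp_assoc, hpj,
          MonoidalCategory.whiskerLeft_comp_assoc])
      exact congrArg CommaMorphism.left this
    let g0 : S.left ⟶ M.left := 𝒰.glueMorphisms (fun i ↦ (g i).left) hcompat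
    let G : S ⟶ M := Over.homMk g0 (by
      apply 𝒰.hom_ext
      intro i
      rw [← Category.assoc, Scheme.Cover.ι_glueMorphisms]
      exact Over.w (g i))
    have hjG : ∀ i, j i ≫ G = g i := fun i ↦ by
      apply Over.OverMorphism.ext
      rw [Over.comp_left]
      exact Scheme.Cover.ι_glueMorphisms 𝒰 _ hcompat i
    have hG : (X ◁ G) ≫ ev = f := by
      apply Over.OverMorphism.ext
      apply (𝒰.pullback₁ (snd X S).left).hom_ext
      intro (i : 𝒰.I₀)
      let W : Over (Spec (CommRingCat.of k)) :=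
        Over.mk (pullback.fst (snd X S).left (𝒰.f i) ≫ (X ⊗ S).hom)
      let w : W ⟶ X ⊗ S := Over.homMk (pullback.fst (snd X S).left (𝒰.f i)) rfl
      let w2 : W ⟶ U i := Over.homMk (pullback.snd (snd X S).left (𝒰.f i)) (by
        show _ = pullback.fst (snd X S).left (𝒰.f i) ≫ (X ⊗ S).hom
        rw [← Over.w (snd X S), pullback.condition_assoc]
        rfl)
      have hw2 : w ≫ snd X S = w2 ≫ j i := Over.OverMorphism.ext pullback.condition
      have hw : w = CartesianMonoidalCategory.lift (w ≫ fst X S) w2 ≫ (X ◁ j i) := by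
        ext1 <;> simp [hw2]
      have : w ≫ (X ◁ G) ≫ ev = w ≫ f := by
        rw [hw, Category.assoc, Category.assoc, ← MonoidalCategory.whiskerLeft_comp_assoc, hjG i]
        exact congrArg _ (hg i)
      exact congrArg CommaMorphism.left this
    refine ⟨G, hG, ?_⟩
    · intro G' hG'
      exact hinj S G' G (hG'.trans hG.symm)
  · have hT : (Z.hom.appTop).hom.FiniteType := HasRingHomProperty.appTop @LocallyOfFiniteType _ hZ
    have hC : Algebra.FiniteType k (GA Z) := by
      rw [← RingHom.finiteType_algebraMap]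
      exact hT.comp (RingHom.FiniteType.of_surjective _
        ((ConcreteCategory.isIso_iff_bijective
          (Scheme.ΓSpecIso (CommRingCat.of k)).inv).mp inferInstance).2)
    show LocallyOfFiniteType (Spec.map (CommRingCat.ofHom (algebraMap k Q)))
    rw [HasRingHomProperty.Spec_iff (P := @LocallyOfFiniteType)]
    exact RingHom.finiteType_algebraMap.mpr (hfin hC)

end GrothLib.HomAff13
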